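import Groth.Agent.Lib.Curves.Clifford
import Groth.Agent.Lib.Cyc.CH.FiltTensor
import Groth.Agent.Lib.TensorMod.Invertible
import Groth.Agent.Lib.ProjCoh.Duality
import Groth.Agent.Lib.DerivedOX.PullTensor
import Groth.Agent.Lib.CohDelta.KBC.Descend

/-!
# Propagating surjectivity on global sections along twists
-/

set_option autoImplicit false
set_option linter.style.haveILetI false
universe u

open CategoryTheory CategoryTheory.Limits AlgebraicGeometry TopologicalSpace Opposite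

noncomputable section

namespace Groth.Agent.Lib.QuadricKer.Gen

open Groth.Agent Groth.Agent.Lib Groth.Agent.Lib.TensorMod.Basic
open Groth.Agent.Lib.Curves.LES (mapK mapK_comp mapK_id isoK)

variable {X : Scheme.{u}}

/-- Tensoring on the right. -/
abbrev R (W : X.Modules) : X.Modules ⥤ X.Modules := (DCoh.tensorBi (X := X)).flip.obj W

theorem R_map (W : X.Modules) {M N : X.Modules} (f : M ⟶ N) : (R W).map f = tmap f (𝟙 W) := by
  exact DerivedOX.PullTensor.tensorBi_map_app f W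

theorem additive_R {W : X.Modules} (hW : PicF.IsInvertible W) : (R W).Additive := by
  haveI := DerivedOX.FlatTensor.preservesFiniteLimits_tensorRight_of_isFlat (Cyc.CH.isFlat_of_isInvertible hW)
  exact Functor.additive_of_preserves_binary_products _

theorem additive_L {W : X.Modules} (hW : PicF.IsInvertible W) :
    ((DCoh.tensorBi (X := X)).obj W).Additive := by
  haveI := DerivedOX.FlatTensor.preservesFiniteLimits_tensorLeft_of_isFlat (Cyc.CH.isFlat_of_isInvertible hW)
  exact Functor.additive_of_preserves_binary_products _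

theorem exists_sigma_decomp {r : ℕ} (f : Fin r → X.Modules) :
    ∃ p : ∀ i, (∐ f) ⟶ f i, ∑ i, p i ≫ Sigma.ι f i = 𝟙 (∐ f) := by
  refine ⟨fun i => Sigma.desc fun j => if h : j = i then eqToHom (congrArg f h) else 0,
    Sigma.hom_ext _ _ fun j => ?_⟩
  rw [Preadditive.comp_sum, Category.comp_id, Finset.sum_eq_single j]
  · simp
  · intro b _ hb; simp [Ne.symm hb]
  · simp

variable (k : Type u) [Field k] [X.Over (Spec (CommRingCat.of k))]

include k

theorem mapK_sum {ι : Type*} {M N : X.Modules} (s : Finset ι) (f : ι → (M ⟶ N)) (n : ℕ)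
    (x : Coh.HH X M n) : mapK k (∑ i ∈ s, f i) n x = ∑ i ∈ s, mapK k (f i) n x :=
  map_sum (AddMonoidHom.mk' (fun ψ : M ⟶ N => mapK k ψ n x)
    fun ψ ψ' => LinearMap.congr_fun (Curves.Clifford.mapK_add k ψ ψ' n) x) f s

theorem mapK_comp_apply {M N R : X.Modules} (f : M ⟶ N) (g : N ⟶ R) (n : ℕ) (x : Coh.HH X M n) :
    mapK k (f ≫ g) n x = mapK k g n (mapK k f n x) :=
  LinearMap.congr_fun (mapK_comp k f g n) x

/-- A decomposition of the identity splits cohomology. -/
theorem exists_decomp {ι : Type*} [Fintype ι] {E : X.Modules} {M : ι → X.Modules}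
    (p : ∀ i, E ⟶ M i) (s : ∀ i, M i ⟶ E) (h : ∑ i, p i ≫ s i = 𝟙 E) (n : ℕ) (x : Coh.HH X E n) :
    ∑ i, mapK k (s i) n (mapK k (p i) n x) = x := by
  refine ((Finset.sum_congr rfl fun i _ => (mapK_comp_apply k (p i) (s i) n x).symm).trans
    ((mapK_sum k _ _ n x).symm.trans ?_))
  rw [h, mapK_id]; rfl

theorem subsingleton_of_decomp {ι : Type*} [Fintype ι] {E : X.Modules} {M : ι → X.Modules}
    (p : ∀ i, E ⟶ M i) (s : ∀ i, M i ⟶ E) (h : ∑ i, p i ≫ s i = 𝟙 E) {n : ℕ}
    (hM : ∀ i, Subsingleton (Coh.HH X (M i) n)) : Subsingleton (Coh.HH X E n) := by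
  refine subsingleton_of_forall_eq 0 fun x => ?_
  rw [← exists_decomp k p s h n x]
  exact Finset.sum_eq_zero fun i _ => by
    haveI := hM i
    rw [Subsingleton.elim (mapK k (p i) n x) 0, map_zero]

/-- Vanishing for the image of a finite sum under an additive functor. -/
theorem subsingleton_map_sigma (F : X.Modules ⥤ X.Modules) [F.Additive] {r : ℕ} (f : Fin r → X.Modules)
    {n : ℕ} (h : ∀ i, Subsingleton (Coh.HH X (F.obj (f i)) n)) :
    Subsingleton (Coh.HH X (F.obj (∐ f)) n) := by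
  obtain ⟨p, hp⟩ := exists_sigma_decomp f
  refine subsingleton_of_decomp k (fun i => F.map (p i)) (fun i => F.map (Sigma.ι f i)) ?_ h
  refine Eq.trans ?_ ((congrArg F.map hp).trans (F.map_id _))
  rw [F.map_sum]
  exact Finset.sum_congr rfl fun i _ => (F.map_comp _ _).symm

theorem subsingleton_map_biprod (F : X.Modules ⥤ X.Modules) [F.Additive] (A B : X.Modules)
    {n : ℕ} (hA : Subsingleton (Coh.HH X (F.obj A) n)) (hB : Subsingleton (Coh.HH X (F.obj B) n)) :
    Subsingleton (Coh.HH X (F.obj (A ⊞ B)) n) := by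
  refine subsingleton_of_forall_eq 0 fun x => ?_
  have h := congrArg F.map (biprod.total (X := A) (Y := B))
  rw [F.map_add, F.map_comp, F.map_comp, F.map_id] at h
  have h' := congrArg (fun φ => mapK k φ n x) h
  simp only [Curves.Clifford.mapK_add, mapK_id, LinearMap.add_apply, mapK_comp_apply, LinearMap.id_apply] at h'
  rw [← h', Subsingleton.elim (mapK k (F.map biprod.fst) n x) 0,
    Subsingleton.elim (mapK k (F.map biprod.snd) n x) 0, map_zero, map_zero, add_zero]

variable {k} {Q₀ P₀ : X.Modules} (m : Q₀ ⟶ P₀)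

/-- Surjectivity of `m ⊗ W` on global sections. -/
def Surj (k : Type u) [Field k] [X.Over (Spec (CommRingCat.of k))] {Q₀ P₀ : X.Modules} (m : Q₀ ⟶ P₀)
    (W : X.Modules) : Prop :=
  Function.Surjective (mapK k (tmap m (𝟙 W)) 0)

theorem surj_of_iso {W W' : X.Modules} (e : W ≅ W') (h : Surj k m W) : Surj k m W' := by
  intro z
  obtain ⟨y, hy⟩ := (isoK k (tensorIso (Iso.refl P₀) e) 0).surjective z
  obtain ⟨w, rfl⟩ := h y
  refine ⟨mapK k (tmap (𝟙 Q₀) e.hom) 0 w, ?_⟩
  rw [← hy]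
  show _ = mapK k (tmap (𝟙 P₀) e.hom) 0 _
  rw [← mapK_comp_apply, ← mapK_comp_apply, ← tmap_comp, ← tmap_comp, Category.id_comp,
    Category.comp_id, Category.comp_id, Category.id_comp]

theorem surj_structure (h : Function.Surjective (mapK k m 0)) :
    Surj k m (Coh.structureModule X) := by
  intro z
  obtain ⟨w, hw⟩ := h (mapK k (rightUnit P₀).hom 0 z)
  refine ⟨mapK k (rightUnit Q₀).inv 0 w, (isoK k (rightUnit P₀) 0).injective ?_⟩
  show mapK k (rightUnit P₀).hom 0 _ = mapK k (rightUnit P₀).hom 0 z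
  rw [← mapK_comp_apply, rightUnit_natural, mapK_comp_apply,
    ← mapK_comp_apply k (rightUnit Q₀).inv, Iso.inv_hom_id, mapK_id]
  exact hw

/-- If `A` is generated by sections with acyclic syzygy, surjectivity passes from `W` to `W ⊗ A`. -/
theorem surj_step {W : X.Modules} (hW : Surj k m W) {ι : Type*} [Fintype ι] {S : ShortComplex X.Modules}
    (hS : S.ShortExact) (hflat : FlatMod.IsFlat (CohB1.tensorMod P₀ W))
    [((DCoh.tensorBi (X := X)).obj (CohB1.tensorMod P₀ W)).Additive]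
    (p : ι → (S.X₂ ⟶ Coh.structureModule X)) (s : ι → (Coh.structureModule X ⟶ S.X₂))
    (hps : ∑ i, p i ≫ s i = 𝟙 S.X₂)
    (h1 : Subsingleton (Coh.HH X (CohB1.tensorMod (CohB1.tensorMod P₀ W) S.X₁) 1)) :
    Surj k m (CohB1.tensorMod W S.X₃) := by
  intro z
  obtain ⟨u, hu⟩ := (isoK k (assoc P₀ W S.X₃) 0).surjective z
  let G := (DCoh.tensorBi (X := X)).obj (CohB1.tensorMod P₀ W)
  have hG := Cyc.CH.shortExact_tensor_left' hflat hS
  have hGm : ∀ {A B : X.Modules} (f : A ⟶ B), G.map f = tmap (𝟙 _) f :=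
    fun f => DerivedOX.PullTensor.tensorBi_obj_map _ f
  obtain ⟨v, hv⟩ := ((Curves.LES.exactK₃ k hG 0 1 rfl) u).1
    (@Subsingleton.elim _ h1 _ _)
  have hdec := exists_decomp k (fun i => G.map (p i)) (fun i => G.map (s i)) (by
    refine Eq.trans ?_ ((congrArg G.map hps).trans (G.map_id _))
    rw [G.map_sum]
    exact Finset.sum_congr rfl fun i _ => (G.map_comp _ _).symm) 0 v
  choose w hw using fun i => hW (mapK k (rightUnit (CohB1.tensorMod P₀ W)).hom 0 (mapK k (G.map (p i)) 0 v))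
  refine ⟨∑ i, mapK k ((rightUnit (CohB1.tensorMod Q₀ W)).inv ≫ tmap (𝟙 _) (s i ≫ S.g) ≫
    (assoc Q₀ W S.X₃).hom) 0 (w i), ?_⟩
  rw [← hu, map_sum]
  show _ = mapK k (assoc P₀ W S.X₃).hom 0 u
  rw [← hv]
  show _ = mapK k (assoc P₀ W S.X₃).hom 0 (mapK k (G.map S.g) 0 v)
  rw [← hdec]
  simp only [map_sum]
  refine Eq.trans ?_ (map_sum (mapK k (assoc P₀ W S.X₃).hom 0) _ Finset.univ).symm
  refine Finset.sum_congr rfl fun i _ => ?_
  have key : ((rightUnit (CohB1.tensorMod Q₀ W)).inv ≫ tmap (𝟙 _) (s i ≫ S.g) ≫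
        (assoc Q₀ W S.X₃).hom) ≫ tmap m (𝟙 _) =
      tmap m (𝟙 W) ≫ (rightUnit (CohB1.tensorMod P₀ W)).inv ≫ tmap (𝟙 _) (s i ≫ S.g) ≫
        (assoc P₀ W S.X₃).hom := by
    have e1 : tmap m (𝟙 (CohB1.tensorMod W S.X₃)) = tmap m (tmap (𝟙 W) (𝟙 S.X₃)) := by rw [tmap_id]
    have e2 : tmap m (𝟙 W) ≫ (rightUnit (CohB1.tensorMod P₀ W)).inv =
        (rightUnit (CohB1.tensorMod Q₀ W)).inv ≫ tmap (tmap m (𝟙 W)) (𝟙 _) := by
      rw [Iso.eq_inv_comp, ← Category.assoc, Iso.comp_inv_eq, rightUnit_natural]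
    rw [Category.assoc, Category.assoc, e1, ← assoc_natural, reassoc_of% e2,
      ← Category.assoc (tmap _ _) (tmap _ _), ← tmap_comp, Category.id_comp, Category.comp_id,
      ← Category.assoc (tmap _ _) (tmap _ _), ← tmap_comp, Category.id_comp, Category.comp_id]
  rw [← mapK_comp_apply, key, mapK_comp_apply, hw i]
  refine (mapK_comp_apply k _ _ 0 _).symm.trans ?_
  rw [Iso.hom_inv_id_assoc]
  refine (mapK_comp_apply k _ _ 0 _).trans ?_
  refine congrArg _ (Eq.trans ?_ (mapK_comp_apply k (G.map (s i)) (G.map S.g) 0 _))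
  rw [← G.map_comp, hGm (s i ≫ S.g)]
  rfl

end Groth.Agent.Lib.QuadricKer.Gen
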