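import Groth.Agent.Lib.QuadricKer.Gen
import Groth.Agent.Lib.KVec.Pull
import Groth.Agent.Lib.CohDelta.KBC.Descend

/-!
# Twisting along the pullback of an Euler sequence
-/

set_option autoImplicit false
set_option linter.style.haveILetI false
universe u

open CategoryTheory CategoryTheory.Limits AlgebraicGeometry TopologicalSpace Opposite

noncomputable section

namespace Groth.Agent.Lib.QuadricKer.Step

open Groth.Agent Groth.Agent.Lib Groth.Agent.Lib.TensorMod.Basic
open Groth.Agent.Lib.Curves.LES (mapK isoK)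

variable {X Y : Scheme.{u}} {k : Type u} [Field k] [X.Over (Spec (CommRingCat.of k))]

/-- `Gen.surj_step` along a pulled back sequence. -/
theorem surj_step_pullback {Q₀ P₀ : X.Modules} (m : Q₀ ⟶ P₀) {W : X.Modules} (π : X ⟶ Y)
    {S : ShortComplex Y.Modules} (hS : S.ShortExact) (h₃ : FlatMod.IsFinLocFree S.X₃) {K L : Y.Modules}
    (eK : S.X₁ ≅ K) (eL : S.X₃ ≅ L) {ι : Type*} [Fintype ι]
    (p : ι → (S.X₂ ⟶ Coh.structureModule Y)) (s : ι → (Coh.structureModule Y ⟶ S.X₂))
    (hps : ∑ i, p i ≫ s i = 𝟙 S.X₂) (hflat : FlatMod.IsFlat (CohB1.tensorMod P₀ W))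
    (hW : Gen.Surj k m W)
    (h1 : Subsingleton (Coh.HH X (CohB1.tensorMod (CohB1.tensorMod P₀ W)
      ((Scheme.Modules.pullback π).obj K)) 1)) :
    Gen.Surj k m (CohB1.tensorMod W ((Scheme.Modules.pullback π).obj L)) := by
  haveI := DerivedOX.FlatTensor.preservesFiniteLimits_tensorLeft_of_isFlat hflat
  haveI : ((DCoh.tensorBi (X := X)).obj (CohB1.tensorMod P₀ W)).Additive :=
    Functor.additive_of_preserves_binary_products _
  let F := Scheme.Modules.pullback π
  have hS' : (S.map F).ShortExact := KVec.Pull.shortExact_pullback π hS h₃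
  let eO : F.obj (Coh.structureModule Y) ≅ Coh.structureModule X := PicLoc.pullbackStructureIso π
  let p' : ι → ((S.map F).X₂ ⟶ Coh.structureModule X) := fun i => F.map (p i) ≫ eO.hom
  let s' : ι → (Coh.structureModule X ⟶ (S.map F).X₂) := fun i => eO.inv ≫ F.map (s i)
  have hps' : ∑ i, p' i ≫ s' i = 𝟙 (S.map F).X₂ := by
    refine Eq.trans ?_ ((congrArg F.map hps).trans (F.map_id _))
    rw [F.map_sum]
    exact Finset.sum_congr rfl fun i _ => by
      simp only [p', s']
      refine (Category.assoc _ _ _).trans ?_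
      erw [Iso.hom_inv_id_assoc, F.map_comp]
      rfl
  have h1' : Subsingleton (Coh.HH X (CohB1.tensorMod (CohB1.tensorMod P₀ W) (F.obj S.X₁)) 1) :=
    haveI := h1
    (isoK k (tensorIso (Iso.refl (CohB1.tensorMod P₀ W)) (F.mapIso eK)) 1).injective.subsingleton
  have key : Gen.Surj k m (CohB1.tensorMod W (S.map F).X₃) :=
    Gen.surj_step (S := S.map F) (ι := ι) m hW hS' hflat p' s' hps' h1'
  exact Gen.surj_of_iso (W := CohB1.tensorMod W (F.obj S.X₃)) m (tensorIso (Iso.refl W) (F.mapIso eL)) key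

end Groth.Agent.Lib.QuadricKer.Step
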