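import Groth.Agent.Lib.QuadricKer.Line
import Groth.Agent.Lib.QuadricKer.Gen

/-!
# The Euler sequence on the line with its first term `O(-1)` or more
-/

set_option autoImplicit false
set_option linter.style.haveILetI false
universe u

open CategoryTheory CategoryTheory.Limits AlgebraicGeometry TopologicalSpace Opposite

noncomputable section

namespace Groth.Agent.Lib.QuadricKer.Euler

open Groth.Agent Groth.Agent.Lib Groth.Agent.Lib.ProjCoh.Coherent
open Groth.Agent.Lib.Curves.LES (mapK δK exactK₁ exactK₂ exactK₃ isoK)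

variable (k : Type u) [Field k]

theorem injective_sigma {X : Scheme.{u}} [X.Over (Spec (CommRingCat.of k))] (M : X.Modules) (r n : ℕ) :
    ∃ f : (Fin r → Coh.HH X M n) →ₗ[k] Coh.HH X (∐ fun _ : Fin r => M) n, Function.Injective f := by
  classical
  let π : Fin r → ((∐ fun _ : Fin r => M) ⟶ M) := fun j => Sigma.desc fun i => if i = j then 𝟙 _ else 0
  refine ⟨∑ i, (mapK k (Sigma.ι (fun _ : Fin r => M) i) n).comp (LinearMap.proj i),
    (injective_iff_map_eq_zero _).2 fun y hy => funext fun j => ?_⟩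
  have h := congrArg (mapK k (π j) n) hy
  simp only [LinearMap.coe_sum, Finset.sum_apply, LinearMap.comp_apply, LinearMap.proj_apply,
    map_sum, map_zero] at h
  rw [Finset.sum_eq_single j] at h
  · rw [← Gen.mapK_comp_apply] at h
    simp only [π, Sigma.ι_desc, if_pos, Curves.LES.mapK_id, LinearMap.id_apply] at h
    exact h
  · intro i _ hij
    rw [← Gen.mapK_comp_apply]
    simp only [π, Sigma.ι_desc, if_neg hij]
    exact ProjCoh.Duality.mapK_zero_apply k _ _
  · intro h'; exact absurd (Finset.mem_univ j) h'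

/-- `0 → O(d) → O² → O(1) → 0` with `d ≥ -1`, decomposed. -/
theorem exists_euler :
    ∃ (S : ShortComplex (CohB1.ProjSpace 1 k).Modules) (d : ℤ), S.ShortExact ∧ -1 ≤ d ∧
      Nonempty (S.X₁ ≅ tw 1 k d) ∧ Nonempty (S.X₃ ≅ tw 1 k 1) ∧ FlatMod.IsFinLocFree S.X₃ ∧
      ∃ (p : Fin 2 → (S.X₂ ⟶ Coh.structureModule (CohB1.ProjSpace 1 k)))
        (s : Fin 2 → (Coh.structureModule (CohB1.ProjSpace 1 k) ⟶ S.X₂)), ∑ i, p i ≫ s i = 𝟙 S.X₂ := by
  obtain ⟨S, d, hS, hd, ⟨eK⟩, h2, h3⟩ := Line.exists_euler k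
  have h₃ : FlatMod.IsFinLocFree S.X₃ := h3 ▸ TensorMod.LocFree.of_rank
    (TensorMod.LocFree.of_isInvertible (isInvertible_tw 1))
  obtain ⟨p, s, hps⟩ : ∃ (p : Fin 2 → (S.X₂ ⟶ Coh.structureModule (CohB1.ProjSpace 1 k)))
      (s : Fin 2 → (Coh.structureModule (CohB1.ProjSpace 1 k) ⟶ S.X₂)), ∑ i, p i ≫ s i = 𝟙 S.X₂ := by
    rw [h2]
    obtain ⟨p₀, hp₀⟩ := Gen.exists_sigma_decomp (X := CohB1.ProjSpace 1 k)
      (fun _ : Fin 2 => Coh.structureModule (CohB1.ProjSpace 1 k))
    exact ⟨p₀, fun i => Sigma.ι (fun _ : Fin 2 => Coh.structureModule (CohB1.ProjSpace 1 k)) i, hp₀⟩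
  refine ⟨S, d, hS, ?_, ⟨eK⟩, ⟨eqToIso h3⟩, h₃, p, s, hps⟩
  by_contra hlt
  obtain rfl : d = -2 := by omega
  haveI : Subsingleton (Coh.HH (CohB1.ProjSpace 1 k) S.X₁ 0) :=
    haveI := Line.subsingleton_tw k (p := 0) (a := -2) ⟨by omega, by omega⟩
    (isoK k eK 0).injective.subsingleton
  haveI : Subsingleton (Coh.HH (CohB1.ProjSpace 1 k) S.X₂ 1) :=
    Gen.subsingleton_of_decomp k p s hps fun _ => by
      haveI := Line.subsingleton_tw k (p := 1) (a := 0) ⟨by omega, by omega⟩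
      exact (isoK k (twZero (n := 1) (R := k)).symm 1).injective.subsingleton
  have hinj : Function.Injective (mapK k S.g 0) := (injective_iff_map_eq_zero _).2 fun x hx => by
    obtain ⟨w, rfl⟩ := ((exactK₂ k hS 0) x).1 hx
    rw [Subsingleton.elim w 0, map_zero]
  haveI hf3 : Module.Finite k (Coh.HH (CohB1.ProjSpace 1 k) S.X₃ 0) := by
    haveI := Line.finite_tw_zero k 1
    exact Module.Finite.equiv (isoK k (eqToIso h3) 0).symm
  have hd3 : Module.finrank k (Coh.HH (CohB1.ProjSpace 1 k) S.X₃ 0) = 2 :=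
    (isoK k (eqToIso h3) 0).finrank_eq.trans (Line.finrank_tw_zero k 1)
  haveI hf2 : Module.Finite k (Coh.HH (CohB1.ProjSpace 1 k) S.X₂ 0) := Module.Finite.of_injective _ hinj
  obtain ⟨f, hf⟩ := injective_sigma k (Coh.structureModule (CohB1.ProjSpace 1 k)) 2 0
  have hd2 : 2 ≤ Module.finrank k (Coh.HH (CohB1.ProjSpace 1 k) S.X₂ 0) := by
    rw [(isoK k (eqToIso h2) 0).finrank_eq]
    haveI : Module.Finite k (Coh.HH (CohB1.ProjSpace 1 k) (FlatMod.freeMod (CohB1.ProjSpace 1 k) 2) 0) :=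
      Module.Finite.equiv (isoK k (eqToIso h2) 0)
    haveI : Module.Finite k (Coh.HH (CohB1.ProjSpace 1 k) (Coh.structureModule (CohB1.ProjSpace 1 k)) 0) :=
      haveI := Line.finite_tw_zero k 0
      Module.Finite.equiv (isoK k (twZero (n := 1) (R := k)) 0)
    have h1 : Module.finrank k (Coh.HH (CohB1.ProjSpace 1 k) (Coh.structureModule (CohB1.ProjSpace 1 k)) 0) = 1 :=
      (isoK k (twZero (n := 1) (R := k)) 0).finrank_eq.symm.trans (Line.finrank_tw_zero k 0)
    have h := LinearMap.finrank_le_finrank_of_injective hf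
    rw [Module.finrank_pi_fintype] at h
    simp only [h1, Finset.sum_const, Finset.card_univ, Fintype.card_fin, smul_eq_mul] at h
    exact h
  have hle := LinearMap.finrank_le_finrank_of_injective hinj
  have hsur : Function.Surjective (mapK k S.g 0) :=
    (LinearMap.injective_iff_surjective_of_finrank_eq_finrank (by omega)).1 hinj
  haveI : Subsingleton (Coh.HH (CohB1.ProjSpace 1 k) S.X₁ 1) := subsingleton_of_forall_eq 0 fun y => by
    obtain ⟨z, rfl⟩ := ((exactK₁ k hS 0 1 rfl) y).1 (Subsingleton.elim _ _)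
    exact ((exactK₃ k hS 0 1 rfl) z).2 (hsur z)
  obtain ⟨e'⟩ := S0845.result k 1 0
  have h1 := (isoK k eK 1).finrank_eq
  rw [Module.finrank_zero_of_subsingleton] at h1
  have h2' : Module.finrank k (Coh.HH (CohB1.ProjSpace 1 k) (tw 1 k (-2)) 1) = 1 :=
    e'.finrank_eq.trans (by rw [S4466.finrank_homog, Nat.choose_one_right])
  omega

end Groth.Agent.Lib.QuadricKer.Euler
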