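import Groth.Agent.Lib.QuadricKer.Box
import Groth.Agent.Lib.QuadricKer.Gen
import Groth.Agent.Lib.CurveBundle.EndAlg

/-!
# Maps out of an invertible module, and shifting endomorphisms by constants
-/

set_option autoImplicit false
set_option linter.style.haveILetI false
universe u

open CategoryTheory CategoryTheory.Limits AlgebraicGeometry TopologicalSpace Opposite

noncomputable section

namespace Groth.Agent.Lib.QuadricKer.Hom

open Groth.Agent Groth.Agent.Lib Groth.Agent.Lib.TensorMod.Basic
open Groth.Agent.Lib.Curves.LES (mapK isoK)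

variable {X : Scheme.{u}} (k : Type u) [Field k] [X.Over (Spec (CommRingCat.of k))]

include k in
/-- A map out of `O` into a module without sections is zero. -/
theorem eq_zero_of_unit {M : X.Modules} (h : Subsingleton (Coh.HH X M 0))
    (g : Coh.structureModule X ⟶ M) : g = 0 :=
  Modules.Free.unitHom_ext ((Curves.GlobalSections.h0Equiv M).symm.injective (Subsingleton.elim _ _))

include k in
/-- Maps out of `O` lift along a surjection on sections. -/
theorem exists_lift_unit {M N : X.Modules} (f : M ⟶ N) (hf : Function.Surjective (mapK k f 0))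
    (g : Coh.structureModule X ⟶ N) : ∃ g' : Coh.structureModule X ⟶ M, g' ≫ f = g := by
  let one : Γ(X, ⊤) := 1
  obtain ⟨y, hy⟩ := hf ((Curves.GlobalSections.h0Equiv N).symm (g.app ⊤ one))
  refine ⟨Modules.Free.unitHom M (Curves.GlobalSections.h0Equiv M y), Modules.Free.unitHom_ext ?_⟩
  have h := congrArg (Curves.GlobalSections.h0Equiv N) hy
  rw [AddEquiv.apply_symm_apply] at h
  have h' : Curves.GlobalSections.h0Equiv N (mapK k f 0 y) =
      f.app ⊤ (Curves.GlobalSections.h0Equiv M y) :=
    (Sheaf.H.equiv₀_naturality _ _ _).symm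
  refine Eq.trans ?_ (h'.symm.trans h |>.trans rfl)
  show f.app ⊤ ((Modules.Free.unitHom M (Curves.GlobalSections.h0Equiv M y)).app ⊤ one) = _
  erw [Modules.Free.unitHom_app_one]

variable {L L' : X.Modules} (e : CohB1.tensorMod L L' ≅ Coh.structureModule X)

omit [X.Over (Spec (CommRingCat.of k))] in
include e in
theorem isEquivalence : (tensorBy L').IsEquivalence :=
  (CategoryTheory.Equivalence.mk (tensorBy L') (tensorBy L)
    (ProjCoh.Coherent.cancelNat (comm L' L ≪≫ e)).symm (ProjCoh.Coherent.cancelNat e)).isEquivalence_functor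

include k e in
/-- Maps out of `L` into `M` vanish if `M ⊗ L⁻¹` has no sections. -/
theorem eq_zero {M : X.Modules} (h : Subsingleton (Coh.HH X (CohB1.tensorMod M L') 0)) (g : L ⟶ M) :
    g = 0 := by
  haveI := isEquivalence e
  refine (tensorBy L').map_injective ?_
  have h0 := eq_zero_of_unit k h (e.inv ≫ (tensorBy L').map g)
  rw [Preadditive.IsIso.comp_left_eq_zero] at h0
  haveI : (tensorBy L').Additive := Functor.additive_of_preserves_binary_products _
  rw [h0, Functor.map_zero]
  rfl

include k e in
/-- Maps out of `L` lift when they do on sections of the twist. -/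
theorem exists_lift {M N : X.Modules} (f : M ⟶ N)
    (hf : Function.Surjective (mapK k (tmap f (𝟙 L')) 0)) (g : L ⟶ N) :
    ∃ g' : L ⟶ M, g' ≫ f = g := by
  haveI := isEquivalence e
  obtain ⟨g₁, hg₁⟩ := exists_lift_unit k (M := CohB1.tensorMod M L') (N := CohB1.tensorMod N L')
    (tmap f (𝟙 L')) hf (e.inv ≫ (tensorBy L').map g)
  obtain ⟨g', hg'⟩ := (tensorBy L').map_surjective (e.hom ≫ g₁)
  refine ⟨g', (tensorBy L').map_injective ?_⟩
  rw [Functor.map_comp, hg']
  show (e.hom ≫ g₁) ≫ tmap f (𝟙 L') = _
  rw [Category.assoc, hg₁, Iso.hom_inv_id_assoc]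

/-- All but finitely many shifts of an integral element are units. -/
theorem exists_finite_nonunit {A : Type*} [Ring A] [Algebra k A] {f : A} (hf : _root_.IsIntegral k f) :
    ∃ s : Finset k, ∀ μ, μ ∉ s → IsUnit (f - algebraMap k A μ) := by
  classical
  obtain ⟨p, hp, hpf⟩ := hf
  refine ⟨p.roots.toFinset, fun μ hμ => ?_⟩
  have hne : p.eval μ ≠ 0 := fun h0 => hμ (Multiset.mem_toFinset.2
    ((Polynomial.mem_roots hp.ne_zero).2 h0))
  obtain ⟨q, hq⟩ := Polynomial.X_sub_C_dvd_sub_C_eval (a := μ) (p := p)
  have h := congrArg (Polynomial.aeval f) hq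
  simp only [map_sub, map_mul, Polynomial.aeval_X, Polynomial.aeval_C] at h
  rw [Polynomial.aeval_def, hpf, zero_sub, Polynomial.aeval_def] at h
  have hu : IsUnit ((f - algebraMap k A μ) * Polynomial.eval₂ (algebraMap k A) f q) := by
    rw [← h]; exact ((isUnit_iff_ne_zero.2 hne).map (algebraMap k A)).neg
  have hc : Commute (f - algebraMap k A μ) (Polynomial.eval₂ (algebraMap k A) f q) := by
    rw [← Polynomial.aeval_def]
    have h1 : f - algebraMap k A μ = Polynomial.aeval f (Polynomial.X - Polynomial.C μ) := by simp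
    rw [h1]
    exact (Commute.all (Polynomial.X - Polynomial.C μ) q).map (Polynomial.aeval f)
  exact (hc.isUnit_mul_iff.1 hu).1

end Groth.Agent.Lib.QuadricKer.Hom
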