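import Groth.Agent.Lib.QuadricKer.Box
import Groth.Agent.Lib.QuadricKer.Euler
import Groth.Agent.Lib.KVec.Pull

/-!
# `H⁰(O(1, 1))` is spanned by products of coordinates
-/

set_option autoImplicit false
set_option linter.style.haveILetI false
universe u

open CategoryTheory CategoryTheory.Limits AlgebraicGeometry TopologicalSpace Opposite

noncomputable section

namespace Groth.Agent.Lib.QuadricKer.Span

open Groth.Agent Groth.Agent.Lib Groth.Agent.Lib.TensorMod.Basic Groth.Agent.Lib.ProjCoh.Coherent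
open Groth.Agent.Lib.Curves.LES (mapK isoK)

section Abstract

variable {X Y : Scheme.{u}} (k : Type u) [Field k] [X.Over (Spec (CommRingCat.of k))]
  (G : Y.Modules ⥤ X.Modules) [G.Additive] {S : ShortComplex Y.Modules}
  {ι : Type*} [Fintype ι] {O : Y.Modules} (p : ι → (S.X₂ ⟶ O)) (s : ι → (O ⟶ S.X₂))
  (hps : ∑ i, p i ≫ s i = 𝟙 S.X₂) (hS : (S.map G).ShortExact)

include hps in
omit [X.Over (Spec (CommRingCat.of k))] in
theorem map_decomp : ∑ i, G.map (p i) ≫ G.map (s i) = 𝟙 (G.obj S.X₂) := by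
  refine Eq.trans ?_ ((congrArg G.map hps).trans (G.map_id _))
  rw [G.map_sum]
  exact Finset.sum_congr rfl fun i _ => (G.map_comp _ _).symm

include hps hS in
theorem exists_eq_sum (h1 : Subsingleton (Coh.HH X (G.obj S.X₁) 1)) (z : Coh.HH X (G.obj S.X₃) 0) :
    ∃ w : ι → Coh.HH X (G.obj O) 0, z = ∑ i, mapK k (G.map (s i ≫ S.g)) 0 (w i) := by
  obtain ⟨v, hv⟩ := ((Curves.LES.exactK₃ k hS 0 1 rfl) z).1 (@Subsingleton.elim _ h1 _ _)
  refine ⟨fun i => mapK k (G.map (p i)) 0 v, ?_⟩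
  rw [← hv]
  refine Eq.trans ?_ ((map_sum (mapK k (G.map S.g) 0) _ Finset.univ).symm.trans
    (congrArg (mapK k (G.map S.g) 0) (Gen.exists_decomp k _ _ (map_decomp G p s hps) 0 v))) |>.symm
  refine Finset.sum_congr rfl fun i _ => ?_
  rw [G.map_comp, Gen.mapK_comp_apply]

include hps hS in
omit [X.Over (Spec (CommRingCat.of k))] in
theorem eq_zero_of_forall {Z : X.Modules} (h : G.obj S.X₃ ⟶ Z)
    (hh : ∀ i, G.map (s i ≫ S.g) ≫ h = 0) : h = 0 := by
  haveI : Epi (G.map S.g) := hS.epi_g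
  refine (cancel_epi (G.map S.g)).1 ?_
  rw [comp_zero, ← Category.id_comp (G.map S.g ≫ h), ← map_decomp G p s hps, Preadditive.sum_comp]
  exact Finset.sum_eq_zero fun i _ => by
    rw [Category.assoc, ← Category.assoc (G.map (s i)), ← G.map_comp, hh, comp_zero]

end Abstract

variable (k : Type u) [Field k]

open MonoidalCategory in
theorem leftUnit_eq_rightUnit {X : Scheme.{u}} :
    (leftUnit (Coh.structureModule X)).hom = (rightUnit (Coh.structureModule X)).hom := by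
  have h : (comm (Coh.structureModule X) (Coh.structureModule X)).hom = 𝟙 _ := by
    show (sh X).map _ = _
    erw [braiding_tensorUnit_left]
    show (sh X).map ((MonoidalCategoryStruct.leftUnitor (𝟙_ (CohB1.PMod X))).hom ≫
      (MonoidalCategoryStruct.rightUnitor (𝟙_ (CohB1.PMod X))).inv) = _
    rw [MonoidalCategory.unitors_equal, Iso.hom_inv_id]
    exact (sh X).map_id _
  exact (Category.id_comp _).symm.trans (congrArg (· ≫ (leftUnit (Coh.structureModule X)).hom) h.symm)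

theorem tmap_split {X : Scheme.{u}} {A B C D : X.Modules} (f : A ⟶ B) (g : C ⟶ D) :
    tmap f (𝟙 C) ≫ tmap (𝟙 B) g = tmap f g := by
  rw [← tmap_comp, Category.comp_id, Category.id_comp]

theorem tmap_split' {X : Scheme.{u}} {A B C D : X.Modules} (f : A ⟶ B) (g : C ⟶ D) :
    tmap (𝟙 A) g ≫ tmap f (𝟙 D) = tmap f g := by
  rw [← tmap_comp, Category.comp_id, Category.id_comp]

set_option maxHeartbeats 1000000 in
/-- The coordinates and their products, abstractly. -/
theorem exists_data_of {X Y : Scheme.{u}} [X.Over (Spec (CommRingCat.of k))] (π₁ π₂ : X ⟶ Y)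
    {S : ShortComplex Y.Modules} (hS : S.ShortExact) (h₃ : FlatMod.IsFinLocFree S.X₃) {L : Y.Modules}
    (hL : PicF.IsInvertible L) (eL : S.X₃ ≅ L)
    (p : Fin 2 → (S.X₂ ⟶ Coh.structureModule Y)) (s : Fin 2 → (Coh.structureModule Y ⟶ S.X₂))
    (hps : ∑ i, p i ≫ s i = 𝟙 S.X₂)
    (hv₁ : Subsingleton (Coh.HH X ((Scheme.Modules.pullback π₁).obj S.X₁) 1))
    (hv₂ : Subsingleton (Coh.HH X (CohB1.tensorMod ((Scheme.Modules.pullback π₁).obj L)
      ((Scheme.Modules.pullback π₂).obj S.X₁)) 1)) :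
    ∃ (α : Fin 2 → (Coh.structureModule X ⟶ (Scheme.Modules.pullback π₁).obj L))
      (β : Fin 2 → (Coh.structureModule X ⟶ (Scheme.Modules.pullback π₂).obj L))
      (μA : Fin 2 → ((Scheme.Modules.pullback π₂).obj L ⟶
        CohB1.tensorMod ((Scheme.Modules.pullback π₁).obj L) ((Scheme.Modules.pullback π₂).obj L)))
      (μB : Fin 2 → ((Scheme.Modules.pullback π₁).obj L ⟶
        CohB1.tensorMod ((Scheme.Modules.pullback π₁).obj L) ((Scheme.Modules.pullback π₂).obj L))),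
      (∀ i j, α i ≫ μB j = β j ≫ μA i) ∧
      (∀ z : Coh.HH X (CohB1.tensorMod ((Scheme.Modules.pullback π₁).obj L) ((Scheme.Modules.pullback π₂).obj L)) 0,
        ∃ w : Fin 2 → Fin 2 → Coh.HH X (Coh.structureModule X) 0,
          z = ∑ j, ∑ i, mapK k (α i ≫ μB j) 0 (w j i)) ∧
      ∀ (Z : X.Modules) (h : CohB1.tensorMod ((Scheme.Modules.pullback π₁).obj L)
          ((Scheme.Modules.pullback π₂).obj L) ⟶ Z), (∀ i j, (α i ≫ μB j) ≫ h = 0) → h = 0 := by
  let F₁ := Scheme.Modules.pullback π₁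
  let F₂ := Scheme.Modules.pullback π₂
  let O := Coh.structureModule X
  let e₁ : F₁.obj S.X₃ ≅ (Scheme.Modules.pullback π₁).obj L := F₁.mapIso eL
  let e₂ : F₂.obj S.X₃ ≅ (Scheme.Modules.pullback π₂).obj L := F₂.mapIso eL
  let o₁ : F₁.obj (Coh.structureModule Y) ≅ O := PicLoc.pullbackStructureIso π₁
  let o₂ : F₂.obj (Coh.structureModule Y) ≅ O := PicLoc.pullbackStructureIso π₂
  let α : Fin 2 → (O ⟶ (Scheme.Modules.pullback π₁).obj L) := fun i => o₁.inv ≫ F₁.map (s i ≫ S.g) ≫ e₁.hom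
  let β : Fin 2 → (O ⟶ (Scheme.Modules.pullback π₂).obj L) := fun j => o₂.inv ≫ F₂.map (s j ≫ S.g) ≫ e₂.hom
  let μB : Fin 2 → ((Scheme.Modules.pullback π₁).obj L ⟶ CohB1.tensorMod ((Scheme.Modules.pullback π₁).obj L) ((Scheme.Modules.pullback π₂).obj L)) := fun j =>
    (rightUnit ((Scheme.Modules.pullback π₁).obj L)).inv ≫ tmap (𝟙 _) (β j)
  let μA : Fin 2 → ((Scheme.Modules.pullback π₂).obj L ⟶ CohB1.tensorMod ((Scheme.Modules.pullback π₁).obj L) ((Scheme.Modules.pullback π₂).obj L)) := fun i =>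
    (leftUnit ((Scheme.Modules.pullback π₂).obj L)).inv ≫ tmap (α i) (𝟙 _)
  have hS₁ : (S.map F₁).ShortExact := KVec.Pull.shortExact_pullback π₁ hS h₃
  have hS₂ : (S.map F₂).ShortExact := KVec.Pull.shortExact_pullback π₂ hS h₃
  have hA : PicF.IsInvertible ((Scheme.Modules.pullback π₁).obj L) := TensorMod.LocFree.isInvertible_of_rank_one
    (TensorMod.LocFree.rank_pullback _ (TensorMod.LocFree.of_isInvertible hL))
  haveI := Gen.additive_L hA
  let G := (DCoh.tensorBi (X := X)).obj ((Scheme.Modules.pullback π₁).obj L)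
  let p' : Fin 2 → ((S.map F₂).X₂ ⟶ F₂.obj (Coh.structureModule Y)) := fun i => F₂.map (p i)
  let s' : Fin 2 → (F₂.obj (Coh.structureModule Y) ⟶ (S.map F₂).X₂) := fun i => F₂.map (s i)
  have hps' : ∑ i, p' i ≫ s' i = 𝟙 (S.map F₂).X₂ := map_decomp F₂ p s hps
  have hG : ((S.map F₂).map G).ShortExact :=
    Cyc.CH.shortExact_tensor_left' (Cyc.CH.isFlat_of_isInvertible hA) hS₂
  let eG : G.obj (F₂.obj (Coh.structureModule Y)) ≅ (Scheme.Modules.pullback π₁).obj L :=
    tensorIso (Iso.refl _) o₂ ≪≫ rightUnit _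
  let eG₃ : G.obj (S.map F₂).X₃ ≅ CohB1.tensorMod ((Scheme.Modules.pullback π₁).obj L) ((Scheme.Modules.pullback π₂).obj L) := tensorIso (Iso.refl _) e₂
  have hμB : ∀ j, μB j = eG.inv ≫ G.map (s' j ≫ (S.map F₂).g) ≫ eG₃.hom := fun j => by
    have h : G.map (s' j ≫ (S.map F₂).g) = tmap (𝟙 ((Scheme.Modules.pullback π₁).obj L)) (F₂.map (s j ≫ S.g)) := by
      rw [F₂.map_comp]
      exact DerivedOX.PullTensor.tensorBi_obj_map _ _
    rw [h]
    show _ = ((rightUnit _).inv ≫ tmap (𝟙 _) o₂.inv) ≫ tmap (𝟙 _) _ ≫ tmap (𝟙 _) e₂.hom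
    rw [Category.assoc, ← tmap_comp, ← tmap_comp, Category.comp_id, Category.comp_id]
  refine ⟨α, β, μA, μB, fun i j => ?_, fun z => ?_, fun Z h hh => ?_⟩
  · have h1 : α i ≫ (rightUnit ((Scheme.Modules.pullback π₁).obj L)).inv = (rightUnit O).inv ≫ tmap (α i) (𝟙 _) := by
      rw [Iso.eq_inv_comp, ← Category.assoc, Iso.comp_inv_eq, rightUnit_natural]
    have h2 : β j ≫ (leftUnit ((Scheme.Modules.pullback π₂).obj L)).inv = (leftUnit O).inv ≫ tmap (𝟙 _) (β j) := by
      rw [Iso.eq_inv_comp, ← Category.assoc, Iso.comp_inv_eq, leftUnit_natural]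
    have h3 : (leftUnit O).inv = (rightUnit O).inv := by
      rw [show leftUnit O = rightUnit O from Iso.ext leftUnit_eq_rightUnit]
    rw [← Category.assoc, h1, ← Category.assoc, h2, h3, Category.assoc, Category.assoc,
      tmap_split, tmap_split']
  ·
    obtain ⟨y, hy⟩ := exists_eq_sum k G p' s' hps' hG hv₂ (mapK k eG₃.inv 0 z)
    choose x hx using fun j =>
      exists_eq_sum k F₁ p s hps hS₁ hv₁ (mapK k e₁.inv 0 (mapK k eG.hom 0 (y j)))
    refine ⟨fun j i => mapK k o₁.hom 0 (x j i), (isoK k eG₃.symm 0).injective ?_⟩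
    show mapK k eG₃.inv 0 z = mapK k eG₃.inv 0 _
    rw [hy, map_sum]
    refine Finset.sum_congr rfl fun j _ => ?_
    have hsum : ∑ i, mapK k (α i ≫ μB j) 0 (mapK k o₁.hom 0 (x j i)) =
        mapK k (μB j) 0 (mapK k eG.hom 0 (y j)) := by
      have h := congrArg (mapK k e₁.hom 0) (hx j)
      rw [← Gen.mapK_comp_apply, Iso.inv_hom_id, Curves.LES.mapK_id, map_sum] at h
      rw [LinearMap.id_apply] at h
      rw [h, map_sum]
      refine Finset.sum_congr rfl fun i _ => ?_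
      rw [← Gen.mapK_comp_apply, ← Gen.mapK_comp_apply, ← Gen.mapK_comp_apply]
      simp only [α, Category.assoc, Iso.hom_inv_id_assoc]
    rw [hsum, hμB, Gen.mapK_comp_apply, Gen.mapK_comp_apply, ← Gen.mapK_comp_apply k eG.hom,
      Iso.hom_inv_id, Curves.LES.mapK_id, LinearMap.id_apply, ← Gen.mapK_comp_apply k eG₃.hom,
      Iso.hom_inv_id, Curves.LES.mapK_id, LinearMap.id_apply]
  · have hB : ∀ j, μB j ≫ h = 0 := fun j => by
      have h0 : e₁.hom ≫ μB j ≫ h = 0 := eq_zero_of_forall F₁ p s hps hS₁ _ fun i => by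
        have := hh i j
        simp only [α, Category.assoc] at this
        rwa [Preadditive.IsIso.comp_left_eq_zero o₁.inv] at this
      rwa [Preadditive.IsIso.comp_left_eq_zero e₁.hom] at h0
    have h0 : eG₃.hom ≫ h = 0 := eq_zero_of_forall G p' s' hps' hG _ fun j => by
      have := hB j
      rw [hμB, Category.assoc, Category.assoc] at this
      rwa [Preadditive.IsIso.comp_left_eq_zero eG.inv] at this
    rwa [Preadditive.IsIso.comp_left_eq_zero eG₃.hom] at h0

/-- The coordinates and their products. -/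
theorem exists_data :
    ∃ (α : Fin 2 → (Coh.structureModule (Box.Q k) ⟶ Box.A1 k 1))
      (β : Fin 2 → (Coh.structureModule (Box.Q k) ⟶ Box.A2 k 1))
      (μA : Fin 2 → (Box.A2 k 1 ⟶ Box.T k 1 1)) (μB : Fin 2 → (Box.A1 k 1 ⟶ Box.T k 1 1)),
      (∀ i j, α i ≫ μB j = β j ≫ μA i) ∧
      (∀ z : Coh.HH (Box.Q k) (Box.T k 1 1) 0,
        ∃ w : Fin 2 → Fin 2 → Coh.HH (Box.Q k) (Coh.structureModule (Box.Q k)) 0,
          z = ∑ j, ∑ i, mapK k (α i ≫ μB j) 0 (w j i)) ∧
      ∀ (Z : (Box.Q k).Modules) (h : Box.T k 1 1 ⟶ Z), (∀ i j, (α i ≫ μB j) ≫ h = 0) → h = 0 := by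
  obtain ⟨S, d, hS, hd, ⟨eK⟩, ⟨eL⟩, h₃, p, s, hps⟩ := Euler.exists_euler k
  refine exists_data_of k (pullback.fst (CohB1.ProjSpace.toSpec 1 k) (CohB1.ProjSpace.toSpec 1 k))
    (pullback.snd (CohB1.ProjSpace.toSpec 1 k) (CohB1.ProjSpace.toSpec 1 k)) hS h₃
    (isInvertible_tw 1) eL p s hps ?_ ?_
  · haveI := Box.subsingleton_T k (a := d) (b := 0) (n := 1) fun p q hpq => by unfold Line.Van; omega
    exact (isoK k ((Scheme.Modules.pullback _).mapIso eK ≪≫ (rightUnit _).symm ≪≫ tensorIso (Iso.refl (Box.A1 k d))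
      ((PicLoc.pullbackStructureIso _).symm ≪≫
        (Scheme.Modules.pullback (pullback.snd (CohB1.ProjSpace.toSpec 1 k) (CohB1.ProjSpace.toSpec 1 k))).mapIso
          (twZero (n := 1) (R := k)).symm)) 1).injective.subsingleton
  · haveI := Box.subsingleton_T k (a := 1) (b := d) (n := 1) fun p q hpq => by unfold Line.Van; omega
    exact (isoK k (tensorIso (Iso.refl (Box.A1 k 1)) ((Scheme.Modules.pullback _).mapIso eK)) 1).injective.subsingleton

end Groth.Agent.Lib.QuadricKer.Span
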